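import Cfsg.Agent.H226.Tall.Defs
import Cfsg.Agent.H239.CpCent
import Cfsg.Agent.EvenType.ChevTwo

/-!
# S2927, [LCP] (helper242, task 5485)

`cp_of_mem` : `K ⊲ G` simple of Lie type in characteristic 2, `C_G(K) = 1`, `x ∈ K` an involution: `C_G(x)` has
characteristic 2.
-/

set_option autoImplicit false

namespace Cfsg.Agent.H242.Tall

open Subgroup Cfsg
open Cfsg.Agent.H239.CharPLocal (CP)

universe u

/-- an automorphism of odd order that centralises `C_K(x)` is trivial -/
theorem fix_one {K : Type u} [Group K] [Finite K] [IsSimpleGroup K] (hl : IsLieTypeChar 2 K) {x : K}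
    (ho : orderOf x = 2) (hcp : CP 2 ↥(centralizer ({x} : Set K))) (α : MulAut K) (hα : ¬ 2 ∣ orderOf α)
    (hfix : ∀ k : K, k * x = x * k → α k = k) : α = 1 := by
  classical
  have h2 : Fact (Nat.Prime 2) := ⟨Nat.prime_two⟩
  set C := centralizer ({x} : Set K) with hCdef
  have hmemC : ∀ k : K, k ∈ C ↔ k * x = x * k := fun k => by
    rw [hCdef, mem_centralizer_singleton_iff]
  have hxC : x ∈ C := (hmemC x).2 rfl
  -- a Sylow subgroup of the centralizer
  obtain ⟨P₁⟩ : Nonempty (Sylow 2 ↥C) := inferInstance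
  have hcore : pCore 2 ↥C ≤ (P₁ : Subgroup ↥C) := Lib.Cores.pCore_le_sylow P₁
  set R : Subgroup K := (P₁ : Subgroup ↥C).map C.subtype with hR
  have hRp : IsPGroup 2 ↥R := P₁.isPGroup'.map _
  have hxR : x ∈ R := by
    have h3 : (⟨x, hxC⟩ : ↥C) ∈ pCore 2 ↥C := by
      apply hcp
      rw [mem_centralizer_iff]
      intro y _
      apply Subtype.ext
      exact (hmemC _).1 y.2
    exact ⟨_, hcore h3, rfl⟩
  obtain ⟨P, hRP⟩ := hRp.exists_le_sylow
  -- the fixed points
  let F : Subgroup K :=
    { carrier := {k | α k = k}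
      one_mem' := map_one α
      mul_mem' := fun {a b} ha hb => by
        change α (a * b) = a * b
        rw [map_mul, show α a = a from ha, show α b = b from hb]
      inv_mem' := fun {a} ha => by
        change α a⁻¹ = a⁻¹
        rw [map_inv, show α a = a from ha] }
  have hmemF : ∀ k : K, k ∈ F ↔ α k = k := fun k => Iff.rfl
  have hCF : C ≤ F := fun k hk => (hmemF k).2 (hfix k ((hmemC k).1 hk))
  set Q : Subgroup K := (P : Subgroup K) ⊓ F with hQ
  have hRC : R ≤ C := Subgroup.map_subtype_le _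
  have hRQ : R ≤ Q := le_inf hRP (hRC.trans hCF)
  have hPF : (P : Subgroup K) ≤ F := by
    by_contra hcon
    have hlt : Q.subgroupOf (P : Subgroup K) < ⊤ := by
      rw [lt_top_iff_ne_top]
      intro h3
      rw [subgroupOf_eq_top] at h3
      exact hcon (h3.trans inf_le_right)
    have hnil : Group.IsNilpotent ↥(P : Subgroup K) := P.isPGroup'.isNilpotent
    have hnc : NormalizerCondition ↥(P : Subgroup K) := Group.normalizerCondition_of_isNilpotent
    obtain ⟨n, hn1, hn2⟩ := SetLike.exists_of_lt (hnc _ hlt)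
    have hnQ : ∀ u ∈ Q, (n : K) * u * (n : K)⁻¹ ∈ Q := by
      intro u hu
      have h3 := (mem_normalizer_iff.1 hn1 (⟨u, hu.1⟩ : ↥(P : Subgroup K))).1 (mem_subgroupOf.2 hu)
      exact mem_subgroupOf.1 h3
    apply hn2
    rw [mem_subgroupOf]
    refine ⟨n.2, ?_⟩
    -- `w = n⁻¹ α(n)`
    set w : K := (n : K)⁻¹ * α (n : K) with hw
    have hαn : α (n : K) = (n : K) * w := by rw [hw]; group
    have hwQ : ∀ u ∈ Q, w * u = u * w := by
      intro u hu
      have h3 : α ((n : K) * u * (n : K)⁻¹) = (n : K) * u * (n : K)⁻¹ := (hnQ u hu).2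
      have h4 : α u = u := hu.2
      rw [map_mul, map_mul, map_inv, h4, hαn] at h3
      have h5 : (n : K) * w * u * ((n : K) * w)⁻¹ = (n : K) * (w * u * w⁻¹) * (n : K)⁻¹ := by group
      rw [h5] at h3
      have h6 : w * u * w⁻¹ = u := mul_left_cancel (mul_right_cancel h3)
      rw [mul_inv_eq_iff_eq_mul] at h6
      exact h6
    have hwC : w ∈ C := (hmemC w).2 (hwQ x (hRQ hxR))
    have hαw : α w = w := hCF hwC
    have hpow : ∀ k : ℕ, (α ^ k) (n : K) = (n : K) * w ^ k := by
      intro k
      induction k with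
      | zero => simp
      | succ k ih =>
        rw [pow_succ', MulAut.mul_apply, ih, map_mul, map_pow, hαw, hαn, mul_assoc, ← pow_succ']
    have hwm : w ^ orderOf α = 1 := by
      have h3 := hpow (orderOf α)
      rw [pow_orderOf_eq_one, MulAut.one_apply] at h3
      exact (mul_eq_left.1 h3.symm)
    -- `w` is a 2-element
    have hw2 : (⟨w, hwC⟩ : ↥C) ∈ pCore 2 ↥C := by
      apply hcp
      rw [mem_centralizer_iff]
      intro y hy
      apply Subtype.ext
      exact (hwQ y (hRQ ⟨y, hcore hy, rfl⟩)).symm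
    obtain ⟨k, hk⟩ := (Lib.Cores.pCore_isPGroup (G := ↥C) 2) ⟨_, hw2⟩
    have hk' : w ^ 2 ^ k = 1 := congrArg (fun z : ↥(pCore 2 ↥C) => ((z : ↥C) : K)) hk
    have hw1 : w = 1 := by
      rw [← orderOf_eq_one_iff, ← Nat.dvd_one]
      have h3 := orderOf_dvd_of_pow_eq_one hwm
      have h4 := orderOf_dvd_of_pow_eq_one hk'
      have h5 : Nat.Coprime (orderOf α) (2 ^ k) :=
        (Nat.Coprime.pow_right k (Nat.Coprime.symm ((Nat.Prime.coprime_iff_not_dvd Nat.prime_two).2 hα)))
      rw [← h5.gcd_eq_one]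
      exact Nat.dvd_gcd h3 h4
    change α (n : K) = (n : K)
    rw [hαn, hw1, mul_one]
  exact Cfsg.Agent.S4613.result 2 hl α hα P fun y hy => hPF hy

/-- **[LCP]** -/
theorem cp_of_mem {G : Type u} [Group G] [Finite G] {K : Subgroup G} [hKn : K.Normal] (hs : IsSimpleGroup ↥K)
    (hna : ∃ a b : ↥K, a * b ≠ b * a) (hl : IsLieTypeChar 2 ↥K) (hC : centralizer (K : Set G) = ⊥) {x : G}
    (hx : x ∈ K) (ho : orderOf x = 2) : CP 2 ↥(centralizer ({x} : Set G)) := by
  classical
  have h2 : Fact (Nat.Prime 2) := ⟨Nat.prime_two⟩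
  have hna' : ¬ IsMulCommutative ↥K := by
    rintro ⟨⟨h⟩⟩
    obtain ⟨a, b, hab⟩ := hna
    exact hab (h a b)
  set X := centralizer ({x} : Set G) with hX
  have hmemX : ∀ g : G, g ∈ X ↔ g * x = x * g := fun g => by
    rw [hX, mem_centralizer_singleton_iff]
  set x' : ↥K := ⟨x, hx⟩ with hx'
  have ho' : orderOf x' = 2 := by rw [← ho, hx', Subgroup.orderOf_mk]
  -- `C_K(x)` has characteristic 2
  have hcp : CP 2 ↥(centralizer ({x'} : Set ↥K)) := by
    have h3 : IsPGroup 2 ↥(zpowers x') := by
      rw [IsPGroup.iff_card]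
      exact ⟨1, by rw [Nat.card_zpowers, ho', pow_one]⟩
    have h4 : zpowers x' ≠ ⊥ := by
      rw [Ne, zpowers_eq_bot]
      intro h5
      rw [h5, orderOf_one] at ho'
      omega
    have h5 : CP 2 ↥(normalizer ((zpowers x' : Subgroup ↥K) : Set ↥K)) :=
      (EvenType.ChevTwo.charTwo hna' (Or.inl hl)).2 _ h3 h4
    have h6 : normalizer ((zpowers x' : Subgroup ↥K) : Set ↥K) = centralizer ({x'} : Set ↥K) := by
      apply le_antisymm
      · intro g hg
        rw [mem_centralizer_singleton_iff]
        have h7 := (mem_normalizer_iff.1 hg x').1 (mem_zpowers x')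
        obtain ⟨k, hk⟩ := mem_zpowers_iff.1 h7
        have h8 : g * x' * g⁻¹ ≠ 1 := by
          intro h9
          have h10 : x' = 1 := by
            calc x' = g⁻¹ * (g * x' * g⁻¹) * g := by group
              _ = 1 := by rw [h9]; group
          rw [h10, orderOf_one] at ho'
          omega
        have hsq : x' ^ 2 = 1 := by rw [← ho', pow_orderOf_eq_one]
        rcases Int.even_or_odd' k with ⟨j, hj | hj⟩
        · exfalso
          apply h8
          rw [← hk, hj, zpow_mul]
          have : x' ^ (2 : ℤ) = 1 := by exact_mod_cast hsq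
          rw [this, one_zpow]
        · have h9 : x' ^ k = x' := by
            rw [hj, zpow_add, zpow_mul]
            have : x' ^ (2 : ℤ) = 1 := by exact_mod_cast hsq
            rw [this, one_zpow, one_mul, zpow_one]
          rw [h9] at hk
          rw [eq_comm, mul_inv_eq_iff_eq_mul] at hk
          exact hk
      · intro g hg
        rw [mem_centralizer_singleton_iff] at hg
        rw [mem_normalizer_iff]
        have key : ∀ z : ↥K, z * x' = x' * z → ∀ y ∈ zpowers x', z * y * z⁻¹ ∈ zpowers x' := by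
          intro z hz y hy
          obtain ⟨k, rfl⟩ := mem_zpowers_iff.1 hy
          have h7 : Commute z (x' ^ k) := Commute.zpow_right hz k
          rw [h7.eq, mul_inv_cancel_right]
          exact zpow_mem (mem_zpowers x') k
        intro y
        refine ⟨key g hg y, fun hy => ?_⟩
        have h7 := key g⁻¹ (by
          have h8 : Commute g x' := hg
          exact h8.inv_left.eq) _ hy
        have h8 : g⁻¹ * (g * y * g⁻¹) * g⁻¹⁻¹ = y := by group
        rwa [h8] at h7
    rw [h6] at h5
    exact h5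
  -- transport to `K ∩ C_G(x)`
  have hmap : (centralizer ({x'} : Set ↥K)).map K.subtype = (K.subgroupOf X).map X.subtype := by
    rw [subgroupOf_map_subtype]
    ext g
    constructor
    · rintro ⟨k, hk, rfl⟩
      refine ⟨k.2, (hmemX _).2 ?_⟩
      have h3 : k * x' = x' * k := by
        have h4 : k ∈ centralizer ({x'} : Set ↥K) := hk
        rwa [mem_centralizer_singleton_iff] at h4
      exact congrArg Subtype.val h3
    · rintro ⟨hgK, hgX⟩
      refine ⟨⟨g, hgK⟩, ?_, rfl⟩
      change (⟨g, hgK⟩ : ↥K) ∈ centralizer ({x'} : Set ↥K)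
      rw [mem_centralizer_singleton_iff]
      exact Subtype.ext ((hmemX g).1 hgX)
  have hcpN : CP 2 ↥(K.subgroupOf X) := by
    refine hcp.of_equiv ?_
    exact ((centralizer ({x'} : Set ↥K)).equivMapOfInjective _ K.subtype_injective).trans
      ((MulEquiv.subgroupCongr hmap).trans ((K.subgroupOf X).equivMapOfInjective _ X.subtype_injective).symm)
  refine H239.CpCent.cp_of_normal (N := K.subgroupOf X) hcpN ?_
  -- the centralizer of `C_K(x)` in `C_G(x)` is a 2-group
  rintro ⟨⟨c, hcX⟩, hc⟩
  set m := (orderOf c).factorization 2 with hm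
  have hpos : orderOf c ≠ 0 := (orderOf_pos c).ne'
  set d : G := c ^ 2 ^ m with hd
  have hdord : ¬ 2 ∣ orderOf d := by
    rw [hd, orderOf_pow, Nat.gcd_eq_right (Nat.ordProj_dvd _ _)]
    exact Nat.not_dvd_ordCompl Nat.prime_two hpos
  have hcK : ∀ k ∈ K, k * x = x * k → c * k = k * c := by
    intro k hk hkx
    have h3 := mem_centralizer_iff.1 hc (⟨k, (hmemX k).2 hkx⟩ : ↥X) (mem_subgroupOf.2 hk)
    exact (congrArg Subtype.val h3).symm
  have h3 := fix_one hl ho' hcp (MulAut.conjNormal (H := K) d) (fun h => hdord (h.trans (orderOf_map_dvd _ _))) (by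
    intro k hk
    apply Subtype.ext
    rw [MulAut.conjNormal_apply]
    have h4 : Commute c (k : G) := hcK k k.2 (congrArg Subtype.val hk)
    have h5 : Commute d (k : G) := h4.pow_left _
    rw [h5.eq]
    group)
  have h4 : d ∈ centralizer (K : Set G) := by
    rw [mem_centralizer_iff]
    intro l hl'
    have h5 := congrArg (fun α : MulAut ↥K => ((α ⟨l, hl'⟩ : ↥K) : G)) h3
    change ((MulAut.conjNormal (H := K) d ⟨l, hl'⟩ : ↥K) : G) = l at h5
    rw [MulAut.conjNormal_apply, mul_inv_eq_iff_eq_mul] at h5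
    exact h5.symm
  rw [hC, mem_bot] at h4
  exact ⟨m, Subtype.ext (Subtype.ext h4)⟩

end Cfsg.Agent.H242.Tall
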